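import Groth.Agent.RatDense.Basic

/-!
# A section lands in the open locus where a modification is an isomorphism
-/

set_option autoImplicit false
universe u

open CategoryTheory CategoryTheory.Limits AlgebraicGeometry

namespace NMPLib

theorem isSchematicallyDense_restrict {X : Scheme.{u}} (V : X.Opens) {D : X.Opens}
    (hD : CInt.IsSchematicallyDense D) : CInt.IsSchematicallyDense (V.ι ⁻¹ᵁ D) := by
  intro A s t hst
  have hle : V.ι ''ᵁ A ⊓ D ≤ V.ι ''ᵁ (A ⊓ V.ι ⁻¹ᵁ D) := by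
    rintro x ⟨⟨a, ha, rfl⟩, hx⟩
    exact ⟨a, ⟨ha, hx⟩, rfl⟩
  refine hD (V.ι ''ᵁ A) ?_
  have h' : V.ι ''ᵁ (A ⊓ V.ι ⁻¹ᵁ D) ≤ V.ι ''ᵁ A := V.ι.image_mono inf_le_left
  show Groth.Agent.RatDense.res (X := X) _ s = Groth.Agent.RatDense.res (X := X) _ t
  refine Eq.trans ((Groth.Agent.RatDense.res_res (X := X) h' hle s).symm) ?_
  refine Eq.trans ?_ (Groth.Agent.RatDense.res_res (X := X) h' hle t)
  exact congrArg _ hst

theorem isOpenImmersion_nhd_of_section {E S : Scheme.{u}} (f : E ⟶ S) (U : S.Opens)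
    (hiso : IsIso (morphismRestrict f U)) (hdense : CInt.IsSchematicallyDense (f ⁻¹ᵁ U))
    (σ : S ⟶ E) (hσ : σ ≫ f = 𝟙 S) (s : S) :
    ∃ W : E.Opens, σ.base s ∈ W ∧ IsOpenImmersion (W.ι ≫ f) := by
  obtain ⟨_, ⟨(V : E.Opens), hV, rfl⟩, hsV, -⟩ := E.isBasis_affineOpens.exists_subset_of_mem_open
    (Set.mem_univ (σ s)) isOpen_univ
  haveI : IsAffine V.toScheme := hV
  let S₀ : S.Opens := σ ⁻¹ᵁ V
  let V' : E.Opens := V ⊓ f ⁻¹ᵁ S₀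
  have hfs : f (σ s) = s := by rw [← Scheme.Hom.comp_apply, hσ]; rfl
  refine ⟨V', ⟨hsV, show f (σ s) ∈ S₀ from hfs.symm ▸ hsV⟩, ?_⟩
  let g : V'.toScheme ⟶ S₀.toScheme := f.resLE S₀ V' inf_le_right
  have hSV : S₀ ≤ σ ⁻¹ᵁ V' := fun x hx => ⟨hx, show f (σ x) ∈ S₀ by
    rw [← Scheme.Hom.comp_apply, hσ]; exact hx⟩
  let τ : S₀.toScheme ⟶ V'.toScheme := σ.resLE V' S₀ hSV
  have hg : g ≫ S₀.ι = V'.ι ≫ f := Scheme.Hom.resLE_comp_ι _ _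
  have hτ : τ ≫ V'.ι = S₀.ι ≫ σ := Scheme.Hom.resLE_comp_ι _ _
  have hτg : τ ≫ g = 𝟙 _ := by
    rw [← cancel_mono S₀.ι, Category.assoc, hg, ← Category.assoc, hτ, Category.assoc, hσ, Category.comp_id,
      Category.id_comp]
  let r : U.toScheme ⟶ (f ⁻¹ᵁ U).toScheme := σ.resLE (f ⁻¹ᵁ U) U (fun x hx => show f (σ x) ∈ U by
    rw [← Scheme.Hom.comp_apply, hσ]; exact hx)
  have hr : r ≫ f ∣_ U = 𝟙 _ := by
    rw [← cancel_mono U.ι, Category.assoc, morphismRestrict_ι, ← Category.assoc,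
      Scheme.Hom.resLE_comp_ι, Category.assoc, hσ, Category.comp_id, Category.id_comp]
  have hfσ : (f ⁻¹ᵁ U).ι ≫ f ≫ σ = (f ⁻¹ᵁ U).ι := by
    haveI := hiso
    have h1 : f ∣_ U ≫ r = 𝟙 _ := by rw [← cancel_mono (f ∣_ U), Category.assoc, hr, Category.comp_id, Category.id_comp]
    rw [← morphismRestrict_ι_assoc, ← (show r ≫ (f ⁻¹ᵁ U).ι = U.ι ≫ σ from Scheme.Hom.resLE_comp_ι _ _),
      ← Category.assoc, h1, Category.id_comp]
  let b : V'.toScheme ⟶ V.toScheme := E.homOfLE inf_le_left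
  have key : (g ≫ τ) ≫ b = b := by
    refine Groth.Agent.RatDense.eq_of_isSchematicallyDense (terminal.from V.toScheme)
      (isSchematicallyDense_restrict V' hdense) _ _ (Subsingleton.elim _ _) ?_
    let d : (V'.ι ⁻¹ᵁ f ⁻¹ᵁ U).toScheme ⟶ (f ⁻¹ᵁ U).toScheme := V'.ι.resLE (f ⁻¹ᵁ U) _ le_rfl
    have hd : d ≫ (f ⁻¹ᵁ U).ι = (V'.ι ⁻¹ᵁ f ⁻¹ᵁ U).ι ≫ V'.ι := Scheme.Hom.resLE_comp_ι _ _
    rw [← cancel_mono V.ι]
    simp only [Category.assoc, b, Scheme.homOfLE_ι, hτ]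
    rw [← Category.assoc g, hg, Category.assoc, ← reassoc_of% hd, hfσ, hd]
  have hgτ : g ≫ τ = 𝟙 _ := by
    rw [← cancel_mono b, Category.id_comp, key]
  haveI : IsIso g := ⟨τ, hgτ, hτg⟩
  rw [← hg]
  infer_instance

end NMPLib
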