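import Groth.Agent.NMPLib.Basic
import Groth.Agent.SchDesc.Imm

/-!
# The Néron mapping property and coproducts of the base
-/

set_option autoImplicit false
universe u

open CategoryTheory CategoryTheory.Limits AlgebraicGeometry

namespace NMPLib

variable {I : Type u} (B N : I → Scheme.{u}) (f : ∀ i, N i ⟶ B i)

theorem bijective_component (U : (∐ B).Opens) (i : I) (Y : Over (B i))
    (h : Function.Bijective (fun g : (Over.map (Sigma.ι B i)).obj Y ⟶ Over.mk (Limits.Sigma.map f) =>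
      (Over.pullback U.ι).map g)) :
    Function.Bijective (fun g : Y ⟶ Over.mk (f i) => (Over.pullback ((Limits.Sigma.ι B i) ⁻¹ᵁ U).ι).map g) := by
  have sq := Groth.Agent.SchDesc.isPullback_sigmaMap f i
  rw [bijective_iff_opens] at h ⊢
  intro q hq
  obtain ⟨F, hF, huniq⟩ := h (q ≫ Sigma.ι N i) (by
    show (q ≫ Sigma.ι N i) ≫ Limits.Sigma.map f = _
    rw [Category.assoc, sq.w]
    exact (reassoc_of% hq) (Sigma.ι B i))
  refine ⟨Over.homMk (sq.lift F.left Y.hom (Over.w F)) (sq.lift_snd _ _ _), ?_, fun g hg => ?_⟩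
  · refine sq.hom_ext ?_ ?_
    · exact (Category.assoc _ _ _).trans ((congrArg (_ ≫ ·) (sq.lift_fst _ _ _)).trans hF)
    · exact (Category.assoc _ _ _).trans ((congrArg (_ ≫ ·) (sq.lift_snd _ _ _)).trans hq.symm)
  · have h1 := huniq (Over.homMk (g.left ≫ Sigma.ι N i) (by
      show (g.left ≫ Sigma.ι N i) ≫ Limits.Sigma.map f = Y.hom ≫ Sigma.ι B i
      rw [Category.assoc, sq.w, ← Category.assoc]
      exact congrArg (· ≫ Sigma.ι B i) (Over.w g)))
      ((Category.assoc _ _ _).symm.trans (congrArg (· ≫ Sigma.ι N i) hg))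
    refine Over.OverMorphism.ext (sq.hom_ext ?_ ((Over.w g).trans (sq.lift_snd _ _ _).symm))
    exact (congrArg (fun t : (Over.map (Sigma.ι B i)).obj Y ⟶ Over.mk (Limits.Sigma.map f) => t.left) h1).trans
      (sq.lift_fst _ _ _).symm

theorem bijective_sigma (U : (∐ B).Opens) (Y : Over (∐ B))
    (h : ∀ i, Function.Bijective (fun g : Over.mk (pullback.snd Y.hom (Sigma.ι B i)) ⟶ Over.mk (f i) =>
      (Over.pullback ((Limits.Sigma.ι B i) ⁻¹ᵁ U).ι).map g)) :
    Function.Bijective (fun g : Y ⟶ Over.mk (Limits.Sigma.map f) => (Over.pullback U.ι).map g) := by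
  have sq := Groth.Agent.SchDesc.isPullback_sigmaMap f
  have H := fun i => (bijective_iff_opens _ _ _).1 (h i)
  rw [bijective_iff_opens]
  intro q hq
  replace hq : q ≫ Limits.Sigma.map f = (Y.hom ⁻¹ᵁ U).ι ≫ Y.hom := hq
  let W : Y.left.Opens := Y.hom ⁻¹ᵁ U
  let P : I → Scheme.{u} := fun i => pullback Y.hom (Sigma.ι B i)
  let Wi : ∀ i, (P i).Opens := fun i => pullback.snd Y.hom (Sigma.ι B i) ⁻¹ᵁ (Sigma.ι B i ⁻¹ᵁ U)
  have hWi : ∀ i, Wi i = pullback.fst Y.hom (Sigma.ι B i) ⁻¹ᵁ W := fun i => by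
    show (pullback.snd Y.hom (Sigma.ι B i) ≫ Sigma.ι B i) ⁻¹ᵁ U = (pullback.fst Y.hom (Sigma.ι B i) ≫ Y.hom) ⁻¹ᵁ U
    rw [pullback.condition]
  let r : ∀ i, (Wi i).toScheme ⟶ W.toScheme := fun i => (pullback.fst Y.hom (Sigma.ι B i)).resLE W (Wi i) (hWi i).le
  have hr : ∀ i, r i ≫ W.ι = (Wi i).ι ≫ pullback.fst Y.hom (Sigma.ι B i) := fun i => Scheme.Hom.resLE_comp_ι _ _
  let qi : ∀ i, (Wi i).toScheme ⟶ N i := fun i => (sq i).lift (r i ≫ q)
    ((Wi i).ι ≫ pullback.snd Y.hom (Sigma.ι B i)) (by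
      rw [Category.assoc, hq, ← Category.assoc, hr, Category.assoc, Category.assoc, pullback.condition])
  have hG := fun i => H i (qi i) ((sq i).lift_snd _ _ _)
  choose G hG huniq using hG
  let 𝒰 : Y.left.OpenCover := (sigmaOpenCover B).pullback₁ Y.hom
  let F₀ : ∀ i, P i ⟶ ∐ N := fun i => (G i).left ≫ Sigma.ι N i
  have hcompat : ∀ i j, pullback.fst (𝒰.f i) (𝒰.f j) ≫ F₀ i = pullback.snd (𝒰.f i) (𝒰.f j) ≫ F₀ j := by
    intro i j
    by_cases hij : i = j
    · subst hij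
      haveI : Mono (𝒰.f i) := inferInstanceAs (Mono (pullback.fst Y.hom (Sigma.ι B i)))
      exact congrArg (· ≫ F₀ i) ((cancel_mono (𝒰.f i)).1 pullback.condition)
    · haveI : IsEmpty ↥(pullback (𝒰.f i) (𝒰.f j)) := ⟨fun x => by
        have h1 := congrArg (fun t => t x) (congrArg (· ≫ Y.hom) (pullback.condition (f := 𝒰.f i) (g := 𝒰.f j)))
        change ((pullback.fst (𝒰.f i) (𝒰.f j) ≫ pullback.fst Y.hom (Sigma.ι B i)) ≫ Y.hom) x =
          ((pullback.snd (𝒰.f i) (𝒰.f j) ≫ pullback.fst Y.hom (Sigma.ι B j)) ≫ Y.hom) x at h1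
        replace h1 : Sigma.ι B i (pullback.snd Y.hom (Sigma.ι B i) (pullback.fst (𝒰.f i) (𝒰.f j) x)) =
            Sigma.ι B j (pullback.snd Y.hom (Sigma.ι B j) (pullback.snd (𝒰.f i) (𝒰.f j) x)) :=
          (congrArg (fun t : P i ⟶ ∐ B => t (pullback.fst (𝒰.f i) (𝒰.f j) x)) pullback.condition).symm.trans
            (h1.trans (congrArg (fun t : P j ⟶ ∐ B => t (pullback.snd (𝒰.f i) (𝒰.f j) x)) pullback.condition))
        simp only [Scheme.Hom.comp_apply] at h1
        exact hij (Sigma.mk.inj ((sigmaι_eq_iff _ _ _ _ _).mp h1)).1⟩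
      exact isInitialOfIsEmpty.hom_ext _ _
  let F : Y.left ⟶ ∐ N := 𝒰.glueMorphisms F₀ hcompat
  have hFi : ∀ i, pullback.fst Y.hom (Sigma.ι B i) ≫ F = (G i).left ≫ Sigma.ι N i :=
    fun i => Scheme.Cover.ι_glueMorphisms 𝒰 F₀ hcompat i
  have hFw : F ≫ Limits.Sigma.map f = Y.hom := Scheme.Cover.hom_ext 𝒰 _ _ fun i => by
    show pullback.fst Y.hom (Sigma.ι B i) ≫ F ≫ Limits.Sigma.map f = pullback.fst Y.hom (Sigma.ι B i) ≫ Y.hom
    rw [← Category.assoc, hFi, Category.assoc, (sq i).w, pullback.condition, ← Category.assoc]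
    exact congrArg (· ≫ Sigma.ι B i) (Over.w (G i))
  refine ⟨Over.homMk F hFw, ?_, fun F' hF' => ?_⟩
  · refine Scheme.Cover.hom_ext ((sigmaOpenCover B).pullback₁ (W.ι ≫ Y.hom) : W.toScheme.OpenCover) _ _ fun i => ?_
    let a : pullback (W.ι ≫ Y.hom) (Sigma.ι B i) ⟶ P i :=
      pullback.lift (pullback.fst _ _ ≫ W.ι) (pullback.snd _ _) (by rw [Category.assoc]; exact pullback.condition)
    have ha : a ≫ pullback.fst Y.hom (Sigma.ι B i) = pullback.fst _ _ ≫ W.ι := pullback.lift_fst _ _ _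
    let b : pullback (W.ι ≫ Y.hom) (Sigma.ι B i) ⟶ (Wi i).toScheme := IsOpenImmersion.lift (Wi i).ι a (by
      rintro _ ⟨x, rfl⟩
      rw [Scheme.Opens.range_ι, hWi]
      show pullback.fst Y.hom (Sigma.ι B i) (a x) ∈ W
      rw [← Scheme.Hom.comp_apply, ha, Scheme.Hom.comp_apply]
      exact Subtype.prop _)
    have hb : b ≫ (Wi i).ι = a := IsOpenImmersion.lift_fac _ _ _
    have hbr : b ≫ r i = pullback.fst _ _ := by
      rw [← cancel_mono W.ι, Category.assoc, hr, ← Category.assoc, hb, ha]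
    show pullback.fst (W.ι ≫ Y.hom) (Sigma.ι B i) ≫ W.ι ≫ F = pullback.fst (W.ι ≫ Y.hom) (Sigma.ι B i) ≫ q
    rw [← Category.assoc, ← ha, Category.assoc, hFi, ← hb, Category.assoc, ← Category.assoc (Wi i).ι,
      show (Wi i).ι ≫ (G i).left = qi i from hG i, show qi i ≫ Sigma.ι N i = r i ≫ q from (sq i).lift_fst _ _ _,
      ← Category.assoc, hbr]
  · refine Over.OverMorphism.ext (Scheme.Cover.hom_ext 𝒰 _ _ fun i => ?_)
    show pullback.fst Y.hom (Sigma.ι B i) ≫ F'.left = pullback.fst Y.hom (Sigma.ι B i) ≫ F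
    have hw : (pullback.fst Y.hom (Sigma.ι B i) ≫ F'.left) ≫ Limits.Sigma.map f =
        pullback.snd Y.hom (Sigma.ι B i) ≫ Sigma.ι B i := by
      rw [Category.assoc]
      exact (congrArg (_ ≫ ·) (Over.w F')).trans pullback.condition
    have h1 := huniq i (Over.homMk ((sq i).lift _ _ hw) ((sq i).lift_snd _ _ _)) ((sq i).hom_ext (by
        rw [Category.assoc]
        refine (congrArg (_ ≫ ·) ((sq i).lift_fst _ _ _)).trans ?_
        refine (Category.assoc _ _ _).symm.trans ((congrArg (· ≫ F'.left) (hr i).symm).trans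
          ((Category.assoc _ _ _).trans ((congrArg (r i ≫ ·) (show W.ι ≫ F'.left = q from hF')).trans ?_)))
        exact ((sq i).lift_fst _ _ _).symm) (by
        rw [Category.assoc]
        exact (congrArg (_ ≫ ·) ((sq i).lift_snd _ _ _)).trans ((sq i).lift_snd _ _ _).symm))
    rw [hFi]
    exact ((sq i).lift_fst _ _ hw).symm.trans (congrArg (fun t => t.left ≫ Sigma.ι N i) h1)

end NMPLib
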